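import Cfsg.Agent.H241.NHMonB
import Cfsg.Agent.H843.N29

/-!
# The Monster: lifting an element of order 29 and its normalizer from `N(3A)/3A = Fi24`, all conjugations (helper626)
-/

set_option autoImplicit false
set_option maxRecDepth 100000

namespace Cfsg.Agent.H626.LD.Lift

open Cfsg Subgroup
open Cfsg.Agent.H241.NH

theorem exists_lift {G F : Type*} [Group G] [Group F] {X : Subgroup G} (hX : Nat.card X = 3)
    {π : ↥(normalizer (X : Set G)) →* F} (hπ : Function.Surjective π)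
    (hker : ∀ n, π n = 1 → (n : G) ∈ X)
    {a w : F} (ha : orderOf a = 29) (hw : w * a * w⁻¹ = a ^ 12) (hw4 : w ^ 4 = 1)
    (hC : ∀ y : F, y * a = a * y → y ∈ zpowers a) :
    ∃ x u s : G, orderOf x = 3 ∧ orderOf u = 29 ∧ s ^ 4 = 1 ∧ s * u * s⁻¹ = u ^ 12 ∧ Self x u ∧
      ∀ (b : F) (k : ℕ), b * a * b⁻¹ = a ^ k → ∃ g : G, g * u * g⁻¹ = u ^ k := by
  have : Fact (Nat.Prime 3) := ⟨Nat.prime_three⟩
  have : Fact (Nat.Prime 29) := ⟨by norm_num⟩
  have : Finite X := Nat.finite_of_card_ne_zero (by rw [hX]; norm_num)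
  obtain ⟨x0, hx0⟩ := exists_prime_orderOf_dvd_card' (G := X) 3 (by rw [hX])
  have hx : orderOf (x0 : G) = 3 := by rw [Subgroup.orderOf_coe, hx0]
  set x : G := (x0 : G) with hxdef
  have hxX : x ∈ X := x0.2
  have hzp : zpowers x = X := by
    apply eq_of_le_of_card_ge
    · rw [zpowers_le]; exact hxX
    · rw [hX, Nat.card_zpowers, hx]
  have hgen : ∀ g ∈ X, ∃ i : ℤ, x ^ i = g := fun g hg => by
    rw [← hzp] at hg
    exact mem_zpowers_iff.1 hg
  have hx3 : x ^ 3 = 1 := by rw [← hx]; exact pow_orderOf_eq_one x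
  have hcube : ∀ g ∈ X, g ^ 3 = 1 := by
    intro g hg
    obtain ⟨i, rfl⟩ := hgen g hg
    rw [← zpow_natCast, ← zpow_mul, mul_comm, zpow_mul, zpow_natCast, hx3, one_zpow]
  -- squares of elements of `N` commute with `x`
  have hsq : ∀ n ∈ normalizer (X : Set G), Commute (n ^ 2) x := by
    intro n hn
    have h1 : n * x * n⁻¹ ∈ X := (mem_normalizer_iff.1 hn x).1 hxX
    obtain ⟨i, hi⟩ := hgen _ h1
    have h2 : n ^ 2 * x * (n ^ 2)⁻¹ = x ^ (i * i) := by
      calc n ^ 2 * x * (n ^ 2)⁻¹ = n * (n * x * n⁻¹) * n⁻¹ := by rw [pow_two]; group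
        _ = n * x ^ i * n⁻¹ := by rw [hi]
        _ = (n * x * n⁻¹) ^ i := by rw [conj_zpow]
        _ = x ^ (i * i) := by rw [← hi, ← zpow_mul]
    have h3 : x ^ (i * i) = x := by
      have h4 : ¬ (3 : ℤ) ∣ i := by
        intro h
        have h5 : x ^ i = 1 := by
          apply orderOf_dvd_iff_zpow_eq_one.1
          rw [hx]; exact_mod_cast h
        rw [h5] at hi
        have h6 : x = 1 := by
          have h7 : x = n⁻¹ * (n * x * n⁻¹) * n := by group
          rw [h7, ← hi]; group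
        rw [h6, orderOf_one] at hx
        norm_num at hx
      have h5 : (3 : ℤ) ∣ i * i - 1 := by
        have h6 : i % 3 = 1 ∨ i % 3 = 2 := by omega
        rcases h6 with h6 | h6
        · have : i * i - 1 = (i - 1) * (i + 1) := by ring
          rw [this]
          exact Dvd.dvd.mul_right (by omega) _
        · have : i * i - 1 = (i - 1) * (i + 1) := by ring
          rw [this]
          exact Dvd.dvd.mul_left (by omega) _
      have h6 : x ^ (i * i - 1) = 1 := by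
        apply orderOf_dvd_iff_zpow_eq_one.1
        rw [hx]; exact_mod_cast h5
      calc x ^ (i * i) = x ^ (i * i - 1 + 1) := by congr 1; ring
        _ = x := by rw [zpow_add, h6, one_mul, zpow_one]
    rw [h3, mul_inv_eq_iff_eq_mul] at h2
    exact h2
  have ha29 : a ^ 29 = 1 := by rw [← ha]; exact pow_orderOf_eq_one a
  obtain ⟨n0, hn0⟩ := hπ a
  obtain ⟨w0, hw0⟩ := hπ w
  set u0 := n0 ^ 30 with hu0
  set s0 := w0 ^ 9 with hs0
  have hπu : π u0 = a := by
    rw [hu0, map_pow, hn0, show 30 = 29 + 1 from rfl, pow_succ, ha29, one_mul]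
  have hu29 : (u0 : G) ^ 29 = 1 := by
    have h1 : ((n0 ^ 29 : ↥(normalizer (X : Set G))) : G) ∈ X := hker _ (by rw [map_pow, hn0, ha29])
    have h2 := hcube _ h1
    rw [hu0]
    push_cast
    push_cast at h2
    rw [← pow_mul] at h2 ⊢
    rw [show 30 * 29 = 29 * 3 * 10 from rfl, pow_mul, h2, one_pow]
  have hcu : Commute (u0 : G) x := by
    have h1 := (hsq n0 n0.2).pow_left 15
    rw [← pow_mul] at h1
    have h2 : (u0 : G) = (n0 : G) ^ (2 * 15) := by rw [hu0]; push_cast; rfl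
    rw [h2]
    exact h1
  have hune : (u0 : G) ≠ 1 := by
    intro h
    have h1 : u0 = 1 := Subtype.ext h
    rw [h1, map_one] at hπu
    rw [← hπu, orderOf_one] at ha
    norm_num at ha
  have hs4 : (s0 : G) ^ 4 = 1 := by
    have h1 : ((w0 ^ 4 : ↥(normalizer (X : Set G))) : G) ∈ X := hker _ (by rw [map_pow, hw0, hw4])
    have h2 := hcube _ h1
    rw [hs0]
    push_cast
    push_cast at h2
    rw [← pow_mul] at h2 ⊢
    rw [show 9 * 4 = 4 * 3 * 3 from rfl, pow_mul, h2, one_pow]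
  have hπs : π s0 = w := by
    rw [hs0, map_pow, hw0, show 9 = 4 * 2 + 1 from rfl, pow_succ, pow_mul, hw4, one_pow, one_mul]
  clear_value u0 s0
  have hgs : ∀ (b0 : ↥(normalizer (X : Set G))) (k : ℕ), π b0 * a * (π b0)⁻¹ = a ^ k →
      (b0 : G) * u0 * (b0 : G)⁻¹ = (u0 : G) ^ k := by
    intro s0 m hw
    have h1 : π (s0 * u0 * s0⁻¹ * (u0 ^ m)⁻¹) = 1 := by
      rw [map_mul, map_mul, map_mul, map_inv, map_inv, map_pow, hπu, hw, mul_inv_cancel]
    have h2 := hker _ h1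
    obtain ⟨i, hi⟩ := hgen _ h2
    push_cast at hi
    have h3 : (s0 : G) * u0 * (s0 : G)⁻¹ = x ^ i * (u0 : G) ^ m := by rw [hi]; group
    have h4 : (x ^ i * (u0 : G) ^ m) ^ 29 = 1 := by
      rw [← h3, conj_pow, hu29, mul_one, mul_inv_cancel]
    have h5 : Commute (x ^ i) ((u0 : G) ^ m) := (hcu.symm.zpow_left i).pow_right m
    rw [h5.mul_pow, ← pow_mul, mul_comm m 29, pow_mul, hu29, one_pow, mul_one] at h4
    have h6 : (x ^ i) ^ 3 = 1 := hcube _ (by rw [← hzp]; exact ⟨i, rfl⟩)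
    have h7 : x ^ i = 1 := by
      calc x ^ i = (x ^ i) ^ (3 * 10) * ((x ^ i) ^ 29)⁻¹ := by group
        _ = 1 := by rw [pow_mul, h6, h4, one_pow, inv_one, mul_one]
    rw [h3, h7, one_mul]
  have hsu : (s0 : G) * u0 * (s0 : G)⁻¹ = (u0 : G) ^ 12 := hgs s0 12 (by rw [hπs, hw])
  refine ⟨x, u0, s0, hx, orderOf_eq_prime hu29 hune, hs4, hsu, ⟨hcu.eq.symm, fun g hgx hgu => ?_⟩, fun b k hb => ?_⟩
  rotate_left
  · obtain ⟨b0, rfl⟩ := hπ b
    exact ⟨b0, hgs b0 k hb⟩
  have hgN : g ∈ normalizer (X : Set G) := by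
    rw [mem_normalizer_iff]
    have hcg : ∀ y ∈ X, g * y * g⁻¹ = y := by
      intro y hy
      obtain ⟨i, rfl⟩ := hgen y hy
      have : Commute g (x ^ i) := (show Commute g x from hgx).zpow_right i
      rw [this.eq, mul_inv_cancel_right]
    intro h
    constructor
    · intro hh
      rw [hcg h hh]
      exact hh
    · intro hh
      have h1 := hcg _ hh
      have h2 : h = g * h * g⁻¹ := by
        have h3 : h = g⁻¹ * (g * h * g⁻¹) * g := by group
        calc h = g⁻¹ * (g * h * g⁻¹) * g := h3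
          _ = g⁻¹ * (g * (g * h * g⁻¹) * g⁻¹) * g := by rw [h1]
          _ = g * h * g⁻¹ := by group
      rw [h2]
      exact hh
  have h1 : π ⟨g, hgN⟩ ∈ zpowers a := by
    apply hC
    rw [← hπu, ← map_mul, ← map_mul]
    congr 1
    exact Subtype.ext hgu
  obtain ⟨j, hj⟩ := mem_zpowers_iff.1 h1
  have h2 : π (⟨g, hgN⟩ * (u0 ^ j)⁻¹) = 1 := by
    rw [map_mul, map_inv, map_zpow, hπu, hj, mul_inv_cancel]
  obtain ⟨i, hi⟩ := hgen _ (hker _ h2)
  push_cast at hi
  refine ⟨i, j, ?_⟩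
  rw [hi]; group

/-- the element of order 29 of `Fi24` -/
theorem exists_fi : ∃ a w b : Spor.Fi24, orderOf a = 29 ∧ w * a * w⁻¹ = a ^ 12 ∧ w ^ 4 = 1 ∧
    (∀ y : Spor.Fi24, y * a = a * y → y ∈ zpowers a) ∧ b * a * b⁻¹ = a ^ 27 := by
  set X : Spor.Fi24 := Cfsg.Agent.H843.D29.D.x with hX
  set w : Spor.Fi24 := Cfsg.Agent.Fischer.Fi24Rep.word Cfsg.Agent.H843.D29.w12 with hw
  have ho : orderOf X = 29 := Cfsg.Agent.H843.D29.order
  have h29 : X ^ 29 = 1 := by rw [← ho]; exact pow_orderOf_eq_one X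
  have hXw : w * X * w⁻¹ = X ^ 12 := Cfsg.Agent.H843.Fi24N.conj_of Cfsg.Agent.H843.D29.h12
  have hC : Nat.card (centralizer (zpowers X : Set Spor.Fi24)) = 29 := Cfsg.Agent.H843.D29.main.2
  -- powers
  have hinv : (w * w) * X * (w * w)⁻¹ = X⁻¹ := by
    calc (w * w) * X * (w * w)⁻¹ = w * (w * X * w⁻¹) * w⁻¹ := by group
      _ = (w * X * w⁻¹) ^ 12 := by rw [conj_pow, hXw]
      _ = X ^ 144 := by rw [hXw, ← pow_mul]
      _ = (X ^ 29) ^ 5 * X⁻¹ := by group
      _ = X⁻¹ := by rw [h29]; group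
  -- `C(X) = ⟨X⟩`
  have hfin : Finite ↥(centralizer (zpowers X : Set Spor.Fi24)) := Nat.finite_of_card_ne_zero (by rw [hC]; norm_num)
  have hcent : centralizer (zpowers X : Set Spor.Fi24) = zpowers X := by
    symm
    apply eq_of_le_of_card_ge
    · rw [zpowers_le, mem_centralizer_iff]
      rintro _ ⟨k, rfl⟩
      exact ((Commute.refl X).zpow_left k).eq
    · rw [hC, Nat.card_zpowers, ho]
  have hc1 : ∀ y : Spor.Fi24, y * X = X * y → y ∈ zpowers X := by
    intro y hy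
    rw [← hcent, mem_centralizer_iff]
    rintro _ ⟨k, rfl⟩
    exact ((show Commute X y from hy.symm).zpow_left k).eq
  have h4 : w * w * (w * w) = 1 := by
    have h5 : w * w * (w * w) ∈ zpowers X := by
      apply hc1
      have h6 : (w * w) * ((w * w) * X * (w * w)⁻¹) * (w * w)⁻¹ = X := by
        rw [hinv]
        calc w * w * X⁻¹ * (w * w)⁻¹ = ((w * w) * X * (w * w)⁻¹)⁻¹ := (conj_inv).symm
          _ = X := by rw [hinv, inv_inv]
      calc w * w * (w * w) * X = ((w * w) * ((w * w) * X * (w * w)⁻¹) * (w * w)⁻¹) * (w * w * (w * w)) := by group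
        _ = X * (w * w * (w * w)) := by rw [h6]
    obtain ⟨k, hk⟩ := mem_zpowers_iff.1 h5
    have h7 : w * (X ^ k) * w⁻¹ = X ^ k := by rw [hk]; group
    rw [← conj_zpow, hXw] at h7
    have h8 : X ^ (11 * k) = 1 := by
      have h9 : X ^ (12 * k) = X ^ k := by
        conv_rhs => rw [← h7]
        rw [← zpow_natCast X 12, ← zpow_mul]
        rfl
      calc X ^ (11 * k) = X ^ (12 * k) * (X ^ k)⁻¹ := by rw [← zpow_neg, ← zpow_add]; congr 1; ring
        _ = 1 := by rw [h9, mul_inv_cancel]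
    rw [← hk]
    have h10 : ((29 : ℕ) : ℤ) ∣ 11 * k := by
      rw [← ho]; exact orderOf_dvd_iff_zpow_eq_one.2 h8
    have h11 : ((29 : ℕ) : ℤ) ∣ k := by
      have : IsCoprime ((29 : ℕ) : ℤ) 11 := by
        rw [Int.isCoprime_iff_gcd_eq_one]; norm_num
      exact this.dvd_of_dvd_mul_left h10
    rw [← ho] at h11
    exact orderOf_dvd_iff_zpow_eq_one.1 h11
  have hb : Cfsg.Agent.Fischer.Fi24Rep.word Cfsg.Agent.H843.D29.w24 * w * X *
      (Cfsg.Agent.Fischer.Fi24Rep.word Cfsg.Agent.H843.D29.w24 * w)⁻¹ = X ^ 27 := by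
    have e1 : Cfsg.Agent.Fischer.Fi24Rep.word Cfsg.Agent.H843.D29.w24 * X *
        (Cfsg.Agent.Fischer.Fi24Rep.word Cfsg.Agent.H843.D29.w24)⁻¹ = X ^ 24 :=
      Cfsg.Agent.H843.Fi24N.conj_of_inv h29 (by norm_num) Cfsg.Agent.H843.D29.h24
    calc Cfsg.Agent.Fischer.Fi24Rep.word Cfsg.Agent.H843.D29.w24 * w * X *
        (Cfsg.Agent.Fischer.Fi24Rep.word Cfsg.Agent.H843.D29.w24 * w)⁻¹
        = Cfsg.Agent.Fischer.Fi24Rep.word Cfsg.Agent.H843.D29.w24 * (w * X * w⁻¹) *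
          (Cfsg.Agent.Fischer.Fi24Rep.word Cfsg.Agent.H843.D29.w24)⁻¹ := by group
      _ = X ^ 288 := by rw [hXw, ← conj_pow, e1, ← pow_mul]
      _ = (X ^ 29) ^ 9 * X ^ 27 := by rw [← pow_mul, ← pow_add]
      _ = X ^ 27 := by rw [h29, one_pow, one_mul]
  refine ⟨X, w, _, ho, hXw, ?_, hc1, hb⟩
  rw [show (4 : ℕ) = 2 * 2 from rfl, pow_mul, pow_two, pow_two]
  exact h4

end Cfsg.Agent.H626.LD.Lift
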