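import Cfsg.Agent.H626.LD.SevB
import Cfsg.Agent.H626.LD.Lift
import Cfsg.Agent.H626.MRow.TwentyNine

/-!
# The Monster: the centralizers of the elements of order 29 (helper626)

* `card_cent` : `|C(u)| = 87`;
* `card_norm` : `|N(⟨u⟩)| = 28 * 87`;
* `isConj` : the elements of order 29 are conjugate;
* `card_cent_iso`, `card_norm_iso`, `isConj_iso` : the same for all groups isomorphic to the Monster.
-/

set_option autoImplicit false
set_option maxRecDepth 100000

namespace Cfsg.Agent.H626.LD.TwentyNine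

open Cfsg Cfsg.Agent.MonsterX Cfsg.Agent.MonsterX.Model Cfsg.Agent.MonsterX.InstData Cfsg.Agent.MonsterX.MainPack
open Cfsg.Agent.MonsterX.MainBasic Cfsg.Agent.MonsterN
open Cfsg.Agent.BpSpor.MBigModel
open Cfsg.Agent.H241.NH
open Cfsg.Agent.H626.MRow
open Cfsg.Agent.H626.MRow.TwentyNine (Self.map odd_cent card_cent_inv)
open Subgroup (centralizer zpowers normalizer mem_centralizer_singleton_iff)

theorem exists_data : ∃ x u s b : MG, orderOf x = 3 ∧ orderOf u = 29 ∧ s ^ 4 = 1 ∧ s * u * s⁻¹ = u ^ 12 ∧ Self x u ∧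
    b * u * b⁻¹ = u ^ 27 := by
  obtain ⟨X, N, hX, hN, ⟨hnorm, ⟨e⟩⟩, -⟩ := Cfsg.Agent.S5535.result
  subst hN
  obtain ⟨f⟩ := Cfsg.Agent.MonsterP.Equiv.equiv
  obtain ⟨a, w, b, ha, hw, hw4, hC, hb⟩ := LD.Lift.exists_fi
  obtain ⟨x, u, s, hx, hu, hs4, hsu, hself, hall⟩ := LD.Lift.exists_lift hX
    (π := e.toMonoidHom.comp (QuotientGroup.mk' _)) (e.surjective.comp (QuotientGroup.mk'_surjective _))
    (fun n hn => by
      have h1 : e (QuotientGroup.mk' _ n) = 1 := hn
      rw [map_eq_one_iff e e.injective] at h1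
      have h2 := (QuotientGroup.eq_one_iff n).1 h1
      exact Subgroup.mem_subgroupOf.1 h2) ha hw hw4 hC
  obtain ⟨g, hg⟩ := hall b 27 hb
  refine ⟨f x, f u, f s, f g, ?_, ?_, ?_, ?_, Self.map f hself, ?_⟩
  · rw [MulEquiv.orderOf_eq, hx]
  · rw [MulEquiv.orderOf_eq, hu]
  · rw [← map_pow, hs4, map_one]
  · rw [← map_inv, ← map_mul, ← map_mul, hsu, map_pow]
  · rw [← map_inv, ← map_mul, ← map_mul, hg, map_pow]

theorem strip {n b r j k : ℕ} (hr : r.Prime) (h : ¬ r ^ (j + 1) ∣ n) (hd : n ∣ r ^ k * b) : n ∣ r ^ j * b := by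
  obtain ⟨y1, y2, h1, h2, rfl⟩ := (Nat.dvd_mul).1 hd
  obtain ⟨i, -, rfl⟩ := (Nat.dvd_prime_pow hr).1 h1
  have h3 : i ≤ j := by
    by_contra h4
    exact h ((pow_dvd_pow r (by omega : j + 1 ≤ i)).trans (Dvd.intro _ rfl))
  exact Nat.mul_dvd_mul (pow_dvd_pow r h3) h2

theorem orderOf_27 : orderOf ((27 : ℕ) : ZMod 29) = 28 := by
  refine orderOf_eq_of_pow_and_pow_div_prime (by norm_num) (by decide) ?_
  intro q hq hd
  have h2 : q ∈ Nat.primeFactors 28 := Nat.mem_primeFactors.2 ⟨hq, hd, by norm_num⟩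
  have h3 : Nat.primeFactors 28 = {2, 7} := by decide +kernel
  rw [h3] at h2
  simp only [Finset.mem_insert, Finset.mem_singleton] at h2
  rcases h2 with rfl | rfl <;> decide

/-- the normalizer of a subgroup of order 29 -/
theorem card_norm_of {G : Type*} [Group G] [Finite G] {u b : G} (hu : orderOf u = 29) (hb : b * u * b⁻¹ = u ^ 27) :
    Nat.card ↥(normalizer (zpowers u : Set G)) = 28 * Nat.card ↥(centralizer ({u} : Set G)) := by
  have h29 : Fact (Nat.Prime 29) := ⟨by norm_num⟩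
  have he := orderOf_27
  have h1 := H843.Cyc.dvd_card hu hb he
  rw [H843.Cyc.centralizer_zpowers] at h1
  -- the upper bound
  have hU : Nat.card (zpowers u) = 29 := by rw [Nat.card_zpowers, hu]
  let φ := (zpowers u).normalizerMonoidHom
  have h3 := Subgroup.card_mul_index φ.ker
  rw [Subgroup.index_ker] at h3
  have h4 : Nat.card φ.ker = Nat.card ↥(centralizer ({u} : Set G)) := by
    have h5 : φ.ker = (centralizer (zpowers u : Set G)).subgroupOf (normalizer (zpowers u : Set G)) :=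
      Subgroup.normalizerMonoidHom_ker _
    rw [h5, ← H843.Cyc.centralizer_zpowers]
    refine Nat.card_congr (Subgroup.subgroupOfEquivOfLe ?_).toEquiv
    intro y hy
    rw [Subgroup.mem_normalizer_iff]
    intro z
    have hy' := Subgroup.mem_centralizer_iff.1 hy
    constructor
    · intro hz
      rw [← hy' z hz, mul_inv_cancel_right]
      exact hz
    · intro hz
      have h6 := hy' _ hz
      have h7 : y * z * y⁻¹ = z := by
        have h8 : y * z = y * (y * z * y⁻¹) := by rw [← h6]; group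
        exact (mul_left_cancel h8).symm
      rwa [h7] at hz
  have h5 : Nat.card φ.range ≤ 28 := by
    have hcyc : IsCyclic ↥(zpowers u) := inferInstance
    have h6 : Nat.card (MulAut ↥(zpowers u)) = 28 := by
      rw [IsCyclic.card_mulAut, hU, Nat.totient_prime (by norm_num)]
    have hfin : Finite (MulAut ↥(zpowers u)) := Nat.finite_of_card_ne_zero (by rw [h6]; norm_num)
    rw [← h6]
    exact Nat.le_of_dvd Nat.card_pos (Subgroup.card_subgroup_dvd_card _)
  apply le_antisymm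
  · rw [← h3, h4, mul_comm]
    exact Nat.mul_le_mul_right _ h5
  · exact Nat.le_of_dvd Nat.card_pos h1

theorem not_sq29 : ¬ 29 ^ 2 ∣ Nat.card MG := by rw [card_M]; norm_num

/-- **the order of the centralizer of the element of order 29 of the construction** -/
theorem card_aux {x u s b : MG} (hx : orderOf x = 3) (hu : orderOf u = 29) (hs4 : s ^ 4 = 1)
    (hsu : s * u * s⁻¹ = u ^ 12) (hself : Self x u) (hb : b * u * b⁻¹ = u ^ 27) :
    Nat.card ↥(centralizer ({u} : Set MG)) = 87 := by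
  have := finite
  have hu29 : u ^ 29 = 1 := by rw [← hu]; exact pow_orderOf_eq_one u
  have h29 : (29 : ℕ).Prime := by norm_num
  have hF29 : Fact (Nat.Prime 29) := ⟨h29⟩
  have ht : s * s * (s * s) = 1 := by
    have : s ^ 4 = s * s * (s * s) := by rw [show (4 : ℕ) = 2 * 2 from rfl, pow_mul, pow_two, pow_two]
    rw [← this, hs4]
  have hinv : s * s * u * (s * s)⁻¹ = u⁻¹ := by
    calc s * s * u * (s * s)⁻¹ = s * (s * u * s⁻¹) * s⁻¹ := by group
      _ = s * u ^ 12 * s⁻¹ := by rw [hsu]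
      _ = (s * u * s⁻¹) ^ 12 := by rw [conj_pow]
      _ = u ^ 144 := by rw [hsu, ← pow_mul]
      _ = (u ^ 29) ^ 5 * u⁻¹ := by group
      _ = u⁻¹ := by rw [hu29]; group
  have hct := card_cent_inv hu ht hinv
  have hodd := odd_cent hu
  have hsq : ∀ q : ℕ, q = 17 ∨ q = 19 ∨ q = 23 ∨ q = 29 ∨ q = 31 ∨ q = 41 ∨ q = 47 ∨ q = 59 ∨ q = 71 →
      ¬ q ^ 2 ∣ Nat.card MG := by
    rw [card_M]
    rintro q (rfl | rfl | rfl | rfl | rfl | rfl | rfl | rfl | rfl) <;> norm_num
  have h2 : ¬ 2 ∣ Nat.card (centralizer ({u} : Set MG)) := by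
    rw [← even_iff_two_dvd, Nat.not_even_iff_odd]
    exact hodd
  have h9 : ¬ 9 ∣ Nat.card (centralizer ({u} : Set MG)) := Loc.not_nine_dvd_cent h29 (by norm_num) hx hu hself
  have h5 : ¬ 5 ∣ Nat.card (centralizer ({u} : Set MG)) := by
    intro h
    have : Fact (Nat.Prime 5) := ⟨by norm_num⟩
    obtain ⟨⟨y, hyC⟩, hy⟩ := exists_prime_orderOf_dvd_card' (G := ↥(centralizer ({u} : Set MG))) 5 h
    rw [Subgroup.orderOf_mk] at hy
    refine H199.NSmMon.five_not_dvd (r := 29) (by tauto) hy ?_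
    have hyu : u ∈ centralizer ({y} : Set MG) := by
      rw [mem_centralizer_singleton_iff]
      exact (mem_centralizer_singleton_iff.1 hyC).symm
    have h1 := orderOf_dvd_natCard (⟨u, hyu⟩ : ↥(centralizer ({y} : Set MG)))
    rwa [Subgroup.orderOf_mk, hu] at h1
  have hr' : ∀ r : ℕ, r = 17 ∨ r = 23 ∨ r = 41 ∨ r = 47 ∨ r = 59 ∨ r = 71 →
      ¬ r ∣ Nat.card (centralizer ({u} : Set MG)) := by
    intro r hr
    refine Loc.not_dvd_cent' h29 (by norm_num) hx hu hself hodd ?_ ?_ ?_ ?_ (hsq r (by tauto))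
    all_goals rcases hr with rfl | rfl | rfl | rfl | rfl | rfl <;> norm_num
  have hr : ∀ r : ℕ, r = 19 ∨ r = 31 → ¬ r ∣ Nat.card (centralizer ({u} : Set MG)) := by
    intro r hr
    refine Loc.not_dvd_cent h29 (by norm_num) hx hu hself hodd ?_ hs4 ?_ ?_ ?_ ?_ (hsq r (by tauto)) ?_
    · rw [hsu]; exact pow_mem (Subgroup.mem_zpowers u) 12
    · rcases hr with rfl | rfl <;> norm_num
    · rcases hr with rfl | rfl <;> norm_num
    · rcases hr with rfl | rfl <;> norm_num
    · rcases hr with rfl | rfl <;> norm_num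
    · rw [hct]
      rcases hr with rfl | rfl <;> norm_num
  have h11 := Elev.not_sq hu
  have h7 : ¬ 7 ^ 4 ∣ Nat.card (centralizer ({u} : Set MG)) := SevB.not_dvd hx hu hs4 hsu hself hodd
  have h3d : 3 ∣ Nat.card (centralizer ({u} : Set MG)) := by
    have h1 := orderOf_dvd_natCard (⟨x, mem_centralizer_singleton_iff.2 hself.1⟩ : ↥(centralizer ({u} : Set MG)))
    rwa [Subgroup.orderOf_mk, hx] at h1
  have h29d : 29 ∣ Nat.card (centralizer ({u} : Set MG)) := by
    have h1 := orderOf_dvd_natCard (⟨u, mem_centralizer_singleton_iff.2 rfl⟩ : ↥(centralizer ({u} : Set MG)))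
    rwa [Subgroup.orderOf_mk, hu] at h1
  have hdvd : Nat.card (centralizer ({u} : Set MG)) ∣ Nat.card MG := Subgroup.card_subgroup_dvd_card _
  have hN := card_norm_of hu hb
  -- Sylow
  have hU : Nat.card (zpowers u) = 29 := by rw [Nat.card_zpowers, hu]
  obtain ⟨k, hk1, hk⟩ : ∃ k : ℕ, k % 29 = 1 ∧ Nat.card ↥(normalizer (zpowers u : Set MG)) * k = Nat.card MG := by
    obtain ⟨P, hP⟩ := H843.Syl.exists_sylow h29 not_sq29 (zpowers u) hU
    have h3 := card_sylow_modEq_one 29 MG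
    rw [P.card_eq_index_normalizer] at h3
    have e : normalizer (P : Set MG) = normalizer (zpowers u : Set MG) := by
      rw [← hP]; rfl
    rw [e] at h3
    exact ⟨_, h3, Subgroup.card_mul_index _⟩
  rw [hN] at hk
  obtain ⟨n, hn⟩ : ∃ n, n = Nat.card (centralizer ({u} : Set MG)) := ⟨_, rfl⟩
  rw [← hn] at h2 h9 h5 hr' hr h11 h7 h3d h29d hdvd hk ⊢
  have hsq29 : ¬ 29 ^ 2 ∣ n := fun h => not_sq29 (h.trans hdvd)
  rw [card_M] at hdvd hk
  -- the divisors
  have d1 : n ∣ 2 ^ 46 * (3 ^ 20 * (5 ^ 9 * (7 ^ 6 * (11 ^ 2 * (13 ^ 3 * (17 ^ 1 * (19 ^ 1 * (23 ^ 1 * (29 ^ 1 *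
      (31 ^ 1 * (41 ^ 1 * (47 ^ 1 * (59 ^ 1 * (71 ^ 1 * 1)))))))))))))) := hdvd.trans (dvd_of_eq (by norm_num))
  have d2 := strip (j := 0) (by norm_num) (by simpa using h2) d1
  rw [pow_zero, one_mul] at d2
  have d3 := strip (j := 1) (by norm_num) (by simpa using h9) d2
  have e1 : 3 ^ 1 * (5 ^ 9 * (7 ^ 6 * (11 ^ 2 * (13 ^ 3 * (17 ^ 1 * (19 ^ 1 * (23 ^ 1 * (29 ^ 1 *
      (31 ^ 1 * (41 ^ 1 * (47 ^ 1 * (59 ^ 1 * (71 ^ 1 * 1))))))))))))) =
      5 ^ 9 * (17 ^ 1 * (19 ^ 1 * (23 ^ 1 * (31 ^ 1 * (41 ^ 1 * (47 ^ 1 * (59 ^ 1 * (71 ^ 1 * (7 ^ 6 * (11 ^ 2 *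
      (87 * 13 ^ 3))))))))))) := by norm_num
  rw [e1] at d3
  have d4 := strip (j := 0) (by norm_num) (by simpa using h5) d3
  rw [pow_zero, one_mul] at d4
  have d5 := strip (j := 0) (by norm_num) (by simpa using hr' 17 (by tauto)) d4
  rw [pow_zero, one_mul] at d5
  have d6 := strip (j := 0) (by norm_num) (by simpa using hr 19 (by tauto)) d5
  rw [pow_zero, one_mul] at d6
  have d7 := strip (j := 0) (by norm_num) (by simpa using hr' 23 (by tauto)) d6
  rw [pow_zero, one_mul] at d7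
  have d8 := strip (j := 0) (by norm_num) (by simpa using hr 31 (by tauto)) d7
  rw [pow_zero, one_mul] at d8
  have d9 := strip (j := 0) (by norm_num) (by simpa using hr' 41 (by tauto)) d8
  rw [pow_zero, one_mul] at d9
  have d10 := strip (j := 0) (by norm_num) (by simpa using hr' 47 (by tauto)) d9
  rw [pow_zero, one_mul] at d10
  have d11 := strip (j := 0) (by norm_num) (by simpa using hr' 59 (by tauto)) d10
  rw [pow_zero, one_mul] at d11
  have d12 := strip (j := 0) (by norm_num) (by simpa using hr' 71 (by tauto)) d11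
  rw [pow_zero, one_mul] at d12
  have d13 := strip (j := 3) (by norm_num) h7 d12
  have e2 : 7 ^ 3 * (11 ^ 2 * (87 * 13 ^ 3)) = 11 ^ 2 * (87 * (7 ^ 3 * 13 ^ 3)) := by norm_num
  rw [e2] at d13
  have d14 := strip (j := 1) (by norm_num) h11 d13
  obtain ⟨m, hm⟩ : 87 ∣ n := by
    have : Nat.Coprime 3 29 := by norm_num
    exact this.mul_dvd_of_dvd_of_dvd h3d h29d
  have e3 : 11 ^ 1 * (87 * (7 ^ 3 * 13 ^ 3)) = 87 * (7 ^ 3 * (11 ^ 1 * 13 ^ 3)) := by norm_num
  rw [e3, hm] at d14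
  have d15 := Nat.dvd_of_mul_dvd_mul_left (by norm_num : 0 < 87) d14
  obtain ⟨y1, y2, hy1, hy2, hy⟩ := (Nat.dvd_mul).1 d15
  obtain ⟨a, ha, rfl⟩ := (Nat.dvd_prime_pow (by norm_num : Nat.Prime 7)).1 hy1
  obtain ⟨y3, y4, hy3, hy4, rfl⟩ := (Nat.dvd_mul).1 hy2
  obtain ⟨b, hb, rfl⟩ := (Nat.dvd_prime_pow (by norm_num : Nat.Prime 11)).1 hy3
  obtain ⟨c, hc, rfl⟩ := (Nat.dvd_prime_pow (by norm_num : Nat.Prime 13)).1 hy4
  rw [hm, ← hy] at hk
  rw [hm, ← hy]
  clear d1 d2 d3 d4 d5 d6 d7 d8 d9 d10 d11 d12 d13 d14 d15 hy1 hy2 hy3 hy4 e1 e2 e3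
  interval_cases a <;> interval_cases b <;> interval_cases c <;> norm_num at hk ⊢ <;> omega

/-- the elements of order 29 are conjugate -/
theorem isConj_of {G : Type*} [Group G] [Finite G] (h2 : ¬ 29 ^ 2 ∣ Nat.card G) {u b : G} (hu : orderOf u = 29)
    (hb : b * u * b⁻¹ = u ^ 27) {v : G} (hv : orderOf v = 29) : IsConj u v := by
  have h29 : (29 : ℕ).Prime := by norm_num
  obtain ⟨g, hg⟩ := H843.Syl.exists_conj h29 h2 (zpowers u) (zpowers v) (by rw [Nat.card_zpowers, hu])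
    (by rw [Nat.card_zpowers, hv])
  have h3 : v ∈ (zpowers u).map (MulAut.conj g).toMonoidHom := by rw [hg]; exact Subgroup.mem_zpowers v
  obtain ⟨y, hy, hyv⟩ := h3
  have hyv' : g * y * g⁻¹ = v := hyv
  refine IsConj.trans ?_ (isConj_iff.2 ⟨g, hyv'⟩)
  obtain ⟨i, hi⟩ := (mem_powers_iff_mem_zpowers.2 hy : y ∈ Submonoid.powers u)
  have hi' : u ^ i = y := hi
  have hyo : orderOf y = 29 := by
    rw [← hv, ← hyv']
    exact ((MulAut.conj g).orderOf_eq y).symm
  -- `i` is a power of 27 modulo 29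
  have hmod : ∀ i : ℕ, i % 29 ≠ 0 → ∃ j : ℕ, j < 28 ∧ 27 ^ j % 29 = i % 29 := by
    have h4 : ∀ i : ℕ, i < 29 → i ≠ 0 → ∃ j, j < 28 ∧ 27 ^ j % 29 = i := by decide +kernel
    intro i hi
    exact h4 (i % 29) (Nat.mod_lt _ (by norm_num)) hi
  have hi0 : i % 29 ≠ 0 := by
    intro h
    have h5 : u ^ i = 1 := orderOf_dvd_iff_pow_eq_one.1 (by rw [hu]; exact Nat.dvd_of_mod_eq_zero h)
    rw [hi'] at h5
    rw [h5, orderOf_one] at hyo
    norm_num at hyo
  obtain ⟨j, -, hj⟩ := hmod i hi0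
  refine isConj_iff.2 ⟨b ^ j, ?_⟩
  rw [H843.Cyc.conj_pow_pow hb, ← hi', pow_eq_pow_iff_modEq, hu]
  exact hj

/-- **the elements of order 29 of the Monster are conjugate** -/
theorem isConj {u v : MG} (hu : orderOf u = 29) (hv : orderOf v = 29) : IsConj u v := by
  have := finite
  obtain ⟨x, u0, s, b, -, hu0, -, -, -, hb⟩ := exists_data
  exact (isConj_of not_sq29 hu0 hb hu).symm.trans (isConj_of not_sq29 hu0 hb hv)

/-- **the centralizer of an element of order 29 has order 87** -/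
theorem card_cent {u : MG} (hu : orderOf u = 29) : Nat.card ↥(centralizer ({u} : Set MG)) = 87 := by
  obtain ⟨x, u0, s, b, hx, hu0, hs4, hsu, hself, hb⟩ := exists_data
  obtain ⟨g, hg⟩ := isConj_iff.1 (isConj hu0 hu)
  rw [BpSpor.card_cent_of_conj hg]
  exact card_aux hx hu0 hs4 hsu hself hb

/-- every power of an element of order 29 different from 1 is conjugate to it -/
theorem exists_conj_27 {u : MG} (hu : orderOf u = 29) : ∃ b : MG, b * u * b⁻¹ = u ^ 27 := by
  have h1 : orderOf (u ^ 27) = 29 := by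
    rw [orderOf_pow, hu]
    norm_num
  exact isConj_iff.1 (isConj hu h1)

/-- **the normalizer of a subgroup of order 29 has order `28 * 87`** -/
theorem card_norm {u : MG} (hu : orderOf u = 29) : Nat.card ↥(normalizer (zpowers u : Set MG)) = 28 * 87 := by
  have := finite
  obtain ⟨b, hb⟩ := exists_conj_27 hu
  rw [card_norm_of hu hb, card_cent hu]

section iso

variable {G : Type*} [Group G]

theorem exists_equiv (h : Spor.IsoM G) : Nonempty (G ≃* MG) := by
  obtain ⟨e⟩ := h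
  obtain ⟨f⟩ := MonsterP.Equiv.equiv
  exact ⟨e.trans f⟩

theorem card_cent_equiv {H : Type*} [Group H] (e : G ≃* H) (u : G) :
    Nat.card ↥(centralizer ({u} : Set G)) = Nat.card ↥(centralizer ({e u} : Set H)) := by
  refine Nat.card_congr (e.toEquiv.subtypeEquiv fun y => ?_)
  rw [mem_centralizer_singleton_iff, mem_centralizer_singleton_iff]
  show y * u = u * y ↔ e y * e u = e u * e y
  rw [← map_mul, ← map_mul, e.injective.eq_iff]

/-- **`IsoM G`: the centralizer of an element of order 29 has order 87** -/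
theorem card_cent_iso (h : Spor.IsoM G) {u : G} (hu : orderOf u = 29) :
    Nat.card ↥(centralizer ({u} : Set G)) = 87 := by
  obtain ⟨e⟩ := exists_equiv h
  rw [card_cent_equiv e]
  exact card_cent (by rw [MulEquiv.orderOf_eq, hu])

/-- **`IsoM G`: the elements of order 29 are conjugate** -/
theorem isConj_iso (h : Spor.IsoM G) {u v : G} (hu : orderOf u = 29) (hv : orderOf v = 29) : IsConj u v := by
  obtain ⟨e⟩ := exists_equiv h
  have h1 := isConj (u := e u) (v := e v) (by rw [MulEquiv.orderOf_eq, hu]) (by rw [MulEquiv.orderOf_eq, hv])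
  have h2 := e.symm.toMonoidHom.map_isConj h1
  have e1 : ∀ g, e.symm.toMonoidHom (e g) = g := fun g => e.symm_apply_apply g
  rwa [e1, e1] at h2

/-- **`IsoM G`: the normalizer of a subgroup of order 29 has order `28 * 87`** -/
theorem card_norm_iso [Finite G] (h : Spor.IsoM G) {u : G} (hu : orderOf u = 29) :
    Nat.card ↥(normalizer (zpowers u : Set G)) = 28 * 87 := by
  have h1 : orderOf (u ^ 27) = 29 := by
    rw [orderOf_pow, hu]
    norm_num
  obtain ⟨b, hb⟩ := isConj_iff.1 (isConj_iso h hu h1)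
  rw [card_norm_of hu hb, card_cent_iso h hu]

end iso

end Cfsg.Agent.H626.LD.TwentyNine
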