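import Cfsg.Agent.H800.ME.Final
import Cfsg.Agent.H603.FD.Spor

/-!
# The Monster: `11²` does not divide the order of the centralizer of an element of order 29 (helper626)
-/

set_option autoImplicit false
set_option maxRecDepth 100000

namespace Cfsg.Agent.H626.LD.Elev

open Subgroup Cfsg
open Cfsg.Agent.LThreeMB (XX Zx)
open Cfsg.Agent.H800.ME.Final
open Cfsg.Agent.BpSpor.MBigModel (MG zz card_M chart finite)

/-- a subgroup whose order is divisible by the full power of `p` contains a conjugate of every `p`-element -/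
theorem exists_conj_mem {G : Type*} [Group G] [Finite G] {p k : ℕ} (hp : p.Prime) {C : Subgroup G}
    (hC : p ^ k ∣ Nat.card C) (hG : ¬ p ^ (k + 1) ∣ Nat.card G) {x : G} (hx : IsPGroup p ↥(zpowers x)) :
    ∃ g : G, g * x * g⁻¹ ∈ C := by
  have : Fact p.Prime := ⟨hp⟩
  obtain ⟨K, hK⟩ := Sylow.exists_subgroup_card_pow_prime p hC
  have hR : Nat.card ↥(K.map C.subtype) = p ^ k := by
    rw [card_map_of_injective C.subtype_injective, hK]
  have hRp : IsPGroup p ↥(K.map C.subtype) := IsPGroup.of_card hR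
  have hidx : ¬ p ∣ (K.map C.subtype).index := by
    intro h
    apply hG
    rw [← (K.map C.subtype).card_mul_index, hR, pow_succ]
    exact Nat.mul_dvd_mul_left _ h
  obtain ⟨Q, hQ⟩ := hx.exists_le_sylow
  obtain ⟨g, hg⟩ := MulAction.exists_smul_eq G Q (hRp.toSylow hidx)
  refine ⟨g, ?_⟩
  have h1 : g * x * g⁻¹ ∈ ((g • Q : Sylow p G) : Subgroup G) := ⟨x, hQ (mem_zpowers x), rfl⟩
  rw [hg] at h1
  exact map_subtype_le K h1

/-- the centralizer of some element of order 11 -/
theorem exists_card : ∃ x : MG, orderOf x = 11 ∧ Nat.card ↥(centralizer ({x} : Set MG)) = 95040 * 11 := by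
  obtain ⟨x, hx, hpx⟩ := exists_x
  have hxo : orderOf (x : MG) = 11 := by rw [Subgroup.orderOf_coe, hx]
  have h1 : Spor.IsoM12 (XX (x : MG)) := Cfsg.Agent.H800.ME.Twelve.iso chart hx hpx (dvd_XX hxo)
  refine ⟨x, hxo, ?_⟩
  rw [Subgroup.card_eq_card_quotient_mul_card_subgroup (Zx (x : MG)), (H603.FD.Spor.isM12 h1).2]
  congr 1
  rw [Zx, Nat.card_zpowers, ← Subgroup.orderOf_coe]
  exact hxo

/-- **`11²` does not divide `|C(u)|`.** -/
theorem not_sq {u : MG} (hu : orderOf u = 29) : ¬ 11 ^ 2 ∣ Nat.card ↥(centralizer ({u} : Set MG)) := by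
  intro h
  have := finite
  have : Fact (Nat.Prime 11) := ⟨by norm_num⟩
  obtain ⟨x, hx, hc⟩ := exists_card
  obtain ⟨g, hg⟩ := exists_conj_mem (by norm_num) h not_cube
    (IsPGroup.of_card (n := 1) (by rw [Nat.card_zpowers, hx, pow_one]) : IsPGroup 11 ↥(zpowers x))
  rw [mem_centralizer_singleton_iff] at hg
  have h1 : (g⁻¹ * u * g) * x = x * (g⁻¹ * u * g) := by
    calc (g⁻¹ * u * g) * x = g⁻¹ * (u * (g * x * g⁻¹)) * g := by group
      _ = g⁻¹ * ((g * x * g⁻¹) * u) * g := by rw [hg]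
      _ = x * (g⁻¹ * u * g) := by group
  have h2 : orderOf (g⁻¹ * u * g) = 29 := by
    have h2 := (MulAut.conj g⁻¹).orderOf_eq u
    rw [MulAut.conj_apply, inv_inv] at h2
    rw [h2, hu]
  have h3 := orderOf_dvd_natCard (⟨g⁻¹ * u * g, mem_centralizer_singleton_iff.2 h1⟩ : ↥(centralizer ({x} : Set MG)))
  rw [Subgroup.orderOf_mk, h2, hc] at h3
  norm_num at h3

end Cfsg.Agent.H626.LD.Elev
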