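import Cfsg.Agent.H626.MRow.Loc
import Cfsg.Agent.H961.SevFin
import Cfsg.Agent.MThirteen.FiveRow
import Cfsg.Agent.Lib.ProductSet

/-!
# S4910 (hub 31, M4): the centralizer of an element of order 29 of the Monster, abstract lemmas (helper626)

* `exists_normal_sylow`: the Sylow subgroups of `C(u)` are normal for all primes different from 3;
* `no_abelian`: a Sylow 7-subgroup containing `Q = 7^{1+4}` has no abelian subgroup of order `7^5` containing `Z(Q)`.
-/

set_option autoImplicit false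

namespace Cfsg.Agent.H626.LD.Abs

open Cfsg Subgroup
open Cfsg.Agent.H241.NH
open Cfsg.Agent.LThreeMB (XX Zx self self_mem_center)
open Cfsg.Agent.H626.MRow
open Cfsg.Agent.H961.SevLift (QQ card_step)

universe v

/-- **the Sylow subgroups of `C(u)` are normal for all primes different from 3** -/
theorem exists_normal_sylow {G : Type v} [Group G] [Finite G] {x u : G} {q : ℕ} (hq : q.Prime) (hq3 : q ≠ 3)
    (hx : orderOf x = 3) (hu : orderOf u = q) (hs : Self x u) (hodd : Odd (Nat.card ↥(centralizer ({u} : Set G))))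
    {r : ℕ} (hr : r.Prime) (hr3 : r ≠ 3) :
    ∃ X : Subgroup ↥(centralizer ({u} : Set G)), X.Normal ∧ IsPGroup r ↥X ∧ ¬ r ∣ X.index := by
  have hFr : Fact r.Prime := ⟨hr⟩
  obtain ⟨h1, h2⟩ := hs.quot Nat.prime_three hq hq3.symm hx hu
  have hoK : Odd (Nat.card (XX u)) := Odd.of_dvd_nat hodd (Subgroup.card_quotient_dvd_card _)
  obtain ⟨Nb, hNb, hnil, hcN⟩ := Loc.exists_complement hoK h1 h2
  set π : ↥(centralizer ({u} : Set G)) →* XX u := QuotientGroup.mk' (Zx u) with hπ
  have hπs : Function.Surjective π := QuotientGroup.mk'_surjective _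
  set N := Nb.comap π with hN
  have hNn : N.Normal := hNb.comap π
  have hidx3 : N.index = 3 := by
    rw [hN, index_comap_of_surjective _ hπs]
    have h3 := Nb.card_mul_index
    rw [← hcN] at h3
    exact Nat.eq_of_mul_eq_mul_left Nat.card_pos h3
  have hNnil : Group.IsNilpotent N := by
    have := hnil
    refine Subgroup.isNilpotent_of_ker_le_center (π.subgroupComap Nb) ?_
    intro n hn
    have h3 : π (n : ↥(centralizer ({u} : Set G))) = 1 := congrArg Subtype.val hn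
    have h4 : (n : ↥(centralizer ({u} : Set G))) ∈ Zx u := (QuotientGroup.eq_one_iff _).1 h3
    have h5 : (n : ↥(centralizer ({u} : Set G))) ∈ center ↥(centralizer ({u} : Set G)) :=
      (zpowers_le.2 (self_mem_center u)) h4
    rw [mem_center_iff]
    intro g
    exact Subtype.ext (mem_center_iff.1 h5 g)
  obtain ⟨P⟩ : Nonempty (Sylow r N) := inferInstance
  have hPn : (P : Subgroup N).Normal := by
    have h4 : NormalizerCondition N := Group.normalizerCondition_of_isNilpotent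
    exact Sylow.normal_of_normalizerCondition h4 P
  have hPc : (P : Subgroup N).Characteristic := P.characteristic_of_normal hPn
  have hPK : ((P : Subgroup N).map N.subtype).Normal := ConjAct.normal_of_characteristic_of_normal
  refine ⟨_, hPK, P.isPGroup'.map _, ?_⟩
  rw [index_map_subtype, hidx3]
  intro hd
  rcases hr.dvd_mul.1 hd with h | h
  · exact P.not_dvd_index h
  · exact hr3 ((Nat.prime_dvd_prime_iff_eq hr Nat.prime_three).1 h)

/-- elements of `r`-power order are in the normal Sylow subgroup -/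
theorem mem_of_pow {K : Type*} [Group K] [Finite K] {r : ℕ} (hr : r.Prime) {X : Subgroup K} (hX : X.Normal)
    (hidx : ¬ r ∣ X.index) {y : K} {k : ℕ} (hy : y ^ r ^ k = 1) : y ∈ X := by
  rw [← QuotientGroup.eq_one_iff]
  have h1 : orderOf (y : K ⧸ X) ∣ r ^ k := by
    apply orderOf_dvd_of_pow_eq_one
    rw [← QuotientGroup.mk_pow, hy, QuotientGroup.mk_one]
  obtain ⟨j, -, hj⟩ := (Nat.dvd_prime_pow hr).1 h1
  have h2 : orderOf (y : K ⧸ X) ∣ X.index := by
    rw [index_eq_card]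
    exact orderOf_dvd_natCard _
  rw [← orderOf_eq_one_iff, hj]
  rcases Nat.eq_zero_or_pos j with h0 | h0
  · rw [h0, pow_zero]
  · exact absurd ((dvd_pow_self r h0.ne').trans (hj ▸ h2)) hidx

/-- the normal Sylow subgroup is invariant under the normalizer of `⟨u⟩` -/
theorem conj_mem {G : Type v} [Group G] [Finite G] {u t : G} (htu : t * u * t⁻¹ ∈ zpowers u)
    {r : ℕ} (hr : r.Prime) {X : Subgroup ↥(centralizer ({u} : Set G))} (hX : X.Normal) (hXp : IsPGroup r ↥X)
    (hidx : ¬ r ∣ X.index) : ∀ g ∈ X.map (centralizer ({u} : Set G)).subtype,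
      t * g * t⁻¹ ∈ X.map (centralizer ({u} : Set G)).subtype := by
  rintro _ ⟨g, hg, rfl⟩
  change t * (g : G) * t⁻¹ ∈ _
  have hgu : (g : G) * u = u * g := mem_centralizer_singleton_iff.1 g.2
  have h4 : zpowers (t * u * t⁻¹) = zpowers u := by
    apply eq_of_le_of_card_ge
    · rw [zpowers_le]; exact htu
    · rw [Nat.card_zpowers, Nat.card_zpowers]
      have h5 := MulEquiv.orderOf_eq (MulAut.conj t) u
      rw [MulAut.conj_apply] at h5
      rw [h5]
  have h5 : u ∈ zpowers (t * u * t⁻¹) := by rw [h4]; exact mem_zpowers u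
  obtain ⟨i, hi⟩ := mem_zpowers_iff.1 h5
  have h6 : Commute (t * g * t⁻¹) (t * u * t⁻¹) := by
    show t * g * t⁻¹ * (t * u * t⁻¹) = t * u * t⁻¹ * (t * g * t⁻¹)
    calc t * g * t⁻¹ * (t * u * t⁻¹) = t * (g * u) * t⁻¹ := by group
      _ = t * (u * g) * t⁻¹ := by rw [hgu]
      _ = _ := by group
  have h7 := h6.zpow_right i
  rw [hi] at h7
  let y : ↥(centralizer ({u} : Set G)) := ⟨t * g * t⁻¹, mem_centralizer_singleton_iff.2 h7.eq⟩
  obtain ⟨k, hk⟩ := hXp ⟨g, hg⟩
  have hk' : (g : G) ^ r ^ k = 1 := congrArg (fun z => ((z : ↥(centralizer ({u} : Set G))) : G)) (congrArg Subtype.val hk)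
  refine ⟨y, mem_of_pow hr hX hidx (k := k) ?_, rfl⟩
  apply Subtype.ext
  show (t * g * t⁻¹) ^ r ^ k = 1
  rw [conj_pow, hk', mul_one, mul_inv_cancel]

/-- inverted elements commute -/
theorem comm_of_inverts {G : Type*} [Group G] {X : Subgroup G} {t : G} (h : ∀ g ∈ X, t * g * t⁻¹ = g⁻¹) :
    ∀ a ∈ X, ∀ b ∈ X, a * b = b * a := by
  intro a ha b hb
  have h1 := h _ (X.mul_mem ha hb)
  have h2 : t * (a * b) * t⁻¹ = (t * a * t⁻¹) * (t * b * t⁻¹) := by group
  rw [h2, h a ha, h b hb, ← mul_inv_rev] at h1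
  exact (inv_injective h1).symm

/-- **abelian 7-subgroups containing `w`** -/
theorem no_abelian {K : Type*} [Group K] [Finite K] {w : K} {Q : Subgroup K} (hQ : QQ w Q)
    (hna : ∃ a ∈ Q, ∃ b ∈ Q, a * b ≠ b * a) (h7 : ¬ 7 ^ 7 ∣ Nat.card K) (hw : orderOf w = 7)
    {A : Subgroup K} (hA : IsPGroup 7 ↥A) (hab : ∀ a ∈ A, ∀ b ∈ A, a * b = b * a) (hwA : w ∈ A) :
    ¬ 7 ^ 5 ∣ Nat.card ↥A := by
  have hp7 : Nat.Prime 7 := by norm_num
  have : Fact (Nat.Prime 7) := ⟨hp7⟩
  intro h5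
  have hQw : ∀ q ∈ Q, q * w = w * q := fun q hq => mem_centralizer_singleton_iff.1 (hQ.le hq)
  -- the center of `Q`
  have hZ : Q ⊓ centralizer (Q : Set K) = zpowers w := by
    by_contra hne
    have h1 := hQ.irr (Q ⊓ centralizer (Q : Set K)) ?_ ⟨hQ.mem, ?_⟩ inf_le_left hne
    · obtain ⟨a, ha, b, hb, hab'⟩ := hna
      rw [← h1] at ha
      exact hab' (mem_centralizer_iff.1 ha.2 b hb).symm
    · rintro d hd q ⟨hq, hqc⟩
      refine ⟨hQ.norm d hd q hq, mem_centralizer_iff.2 fun b hb => ?_⟩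
      have hd' : d⁻¹ * w = w * d⁻¹ := ((show Commute d w from hd).inv_left).eq
      have h2 : d⁻¹ * b * d ∈ Q := by
        have := hQ.norm d⁻¹ hd' b hb
        rwa [inv_inv] at this
      have h3 := mem_centralizer_iff.1 hqc _ h2
      calc b * (d * q * d⁻¹) = d * (d⁻¹ * b * d * q) * d⁻¹ := by group
        _ = d * (q * (d⁻¹ * b * d)) * d⁻¹ := by rw [h3]
        _ = d * q * d⁻¹ * b := by group
    · exact mem_centralizer_iff.2 fun b hb => hQw b hb
  -- `A Q`
  have hAn : A ≤ normalizer (Q : Set K) := by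
    intro a ha
    have h1 : ∀ q ∈ Q, a * q * a⁻¹ ∈ Q := hQ.norm a (hab a ha w hwA)
    have h2 : ∀ q ∈ Q, a⁻¹ * q * a⁻¹⁻¹ ∈ Q := hQ.norm a⁻¹ (hab a⁻¹ (A.inv_mem ha) w hwA)
    rw [mem_normalizer_iff]
    intro q
    refine ⟨h1 q, fun h => ?_⟩
    have := h2 _ h
    have e : a⁻¹ * (a * q * a⁻¹) * a⁻¹⁻¹ = q := by group
    rwa [e] at this
  have hAQ : IsPGroup 7 ↥(A ⊔ Q) := hA.to_sup_of_normal_right' hQ.pgroup hAn
  have hcA : Nat.card ↥(A ⊔ Q) * Nat.card ↥(A ⊓ Q) = Nat.card A * Nat.card Q := by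
    rw [← Cfsg.Agent.Lib.ProductSet.card_mul_card_inf A Q]
    congr 1
    exact Nat.card_congr (Equiv.setCongr (Subgroup.coe_mul_of_left_le_normalizer_right A Q hAn))
  have h4 : 7 ^ 4 ∣ Nat.card ↥(A ⊓ Q) := by
    obtain ⟨n, hn⟩ := IsPGroup.iff_card.1 hAQ
    obtain ⟨m, hm⟩ := IsPGroup.iff_card.1 (hA.to_le (inf_le_left : A ⊓ Q ≤ A))
    obtain ⟨l, hl⟩ := IsPGroup.iff_card.1 hA
    rw [hn, hm, hl, hQ.card, ← pow_add, ← pow_add] at hcA
    have h6 := Nat.pow_right_injective (le_refl 2 |>.trans (by norm_num : 2 ≤ 7)) hcA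
    have h8 : n ≤ 6 := by
      by_contra h9
      exact h7 ((pow_dvd_pow 7 (by omega : 7 ≤ n)).trans (hn ▸ card_subgroup_dvd_card _))
    have h9 : 5 ≤ l := by
      rw [hl] at h5
      exact (Nat.pow_dvd_pow_iff_le_right (by norm_num)).1 h5
    rw [hm]
    exact pow_dvd_pow 7 (by omega)
  set B := A ⊓ Q with hB
  have hBQ : B ≠ Q := by
    intro h
    obtain ⟨a, ha, b, hb, hne⟩ := hna
    rw [← h] at ha hb
    exact hne (hab a ha.1 b hb.1)
  obtain ⟨g, hgQ, hgB⟩ := SetLike.exists_of_lt (lt_of_le_of_ne inf_le_right hBQ)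
  have hBg : B ⊔ zpowers g = Q := by
    have h6 : B ⊔ zpowers g ≤ Q := sup_le inf_le_right (zpowers_le.2 hgQ)
    apply eq_of_le_of_card_ge h6
    rw [hQ.card]
    refine Nat.le_of_dvd Nat.card_pos (card_step hp7 (hQ.pgroup.to_le h6) (A := B) ?_ h4)
    refine lt_of_le_of_ne le_sup_left fun h => hgB ?_
    have h7 : g ∈ B ⊔ zpowers g := mem_sup_right (mem_zpowers g)
    rwa [← h] at h7
  have hcw : ∀ b ∈ Q, b * g * b⁻¹ * g⁻¹ ∈ zpowers w := fun b hb => hQ.comm b hb g hgQ
  have hwcom : ∀ q ∈ Q, ∀ c ∈ zpowers w, q * c = c * q := by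
    intro q hq c hc
    obtain ⟨i, rfl⟩ := mem_zpowers_iff.1 hc
    exact ((show Commute q w from hQw q hq).zpow_right i).eq
  let φ : ↥B →* K :=
    { toFun := fun b => (b : K) * g * (b : K)⁻¹ * g⁻¹
      map_one' := by
        show (1 : K) * g * (1 : K)⁻¹ * g⁻¹ = 1
        group
      map_mul' := fun a b => by
        show (a * b : K) * g * (a * b : K)⁻¹ * g⁻¹ = _
        have e1 := hwcom a a.2.2 _ (hcw b b.2.2)
        calc (a * b : K) * g * (a * b : K)⁻¹ * g⁻¹ = (a * (b * g * (b : K)⁻¹ * g⁻¹)) * g * (a : K)⁻¹ * g⁻¹ := by group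
          _ = (b * g * (b : K)⁻¹ * g⁻¹) * (a * g * (a : K)⁻¹ * g⁻¹) := by rw [e1]; group
          _ = (a * g * (a : K)⁻¹ * g⁻¹) * (b * g * (b : K)⁻¹ * g⁻¹) := by
            refine (hwcom _ ?_ _ (hcw b b.2.2)).symm
            exact (zpowers_le.2 hQ.mem) (hcw a a.2.2) }
  have hker : Nat.card φ.ker ∣ 7 := by
    have h6 : φ.ker.map B.subtype ≤ zpowers w := by
      rw [← hZ]
      rintro _ ⟨b, hb, rfl⟩
      refine ⟨b.2.2, ?_⟩
      have h8 : (b : K) * g * (b : K)⁻¹ * g⁻¹ = 1 := hb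
      have h9 : (b : K) * g = g * b := by
        have : (b : K) * g = ((b : K) * g * (b : K)⁻¹ * g⁻¹) * (g * b) := by group
        rw [this, h8, one_mul]
      rw [← hBg]
      have h10 : B ⊔ zpowers g ≤ centralizer ({(b : K)} : Set K) := by
        refine sup_le ?_ (zpowers_le.2 (mem_centralizer_singleton_iff.2 h9.symm))
        intro c hc
        exact mem_centralizer_singleton_iff.2 (hab c hc.1 b b.2.1)
      exact mem_centralizer_iff.2 fun c hc => mem_centralizer_singleton_iff.1 (h10 hc)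
    have h8 := card_dvd_of_le h6
    rw [Nat.card_zpowers, hw, card_map_of_injective B.subtype_injective] at h8
    exact h8
  have hran : Nat.card φ.range ∣ 7 := by
    have h6 : φ.range ≤ zpowers w := by
      rintro _ ⟨b, rfl⟩
      exact hcw b b.2.2
    have h8 := card_dvd_of_le h6
    rwa [Nat.card_zpowers, hw] at h8
  have h6 : Nat.card B = Nat.card φ.range * Nat.card φ.ker := by
    rw [card_eq_card_quotient_mul_card_subgroup φ.ker, Nat.card_congr (QuotientGroup.quotientKerEquivRange φ).toEquiv]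
  have h8 : 7 ^ 4 ∣ 7 * 7 := by
    refine h4.trans ?_
    rw [h6]
    exact Nat.mul_dvd_mul hran hker
  norm_num at h8

end Cfsg.Agent.H626.LD.Abs
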