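import Cfsg.Agent.H3.M13C

/-!
# Elements of order 7 and 29 of the Monster (helper626)

* `not_dvd_seven` : `y` of order 7 with a centralizer of even order: `29` does not divide `|C(y)|`.
-/

set_option autoImplicit false
set_option maxRecDepth 100000

namespace Cfsg.Agent.H626.LD.SevA

open Cfsg Cfsg.Agent.MonsterX Cfsg.Agent.MonsterX.InstData
open Cfsg.Agent.MonsterP Cfsg.Agent.MThirteen
open Cfsg.Agent.LThreeMB (fr XX Zx zD KChart.Cent KChart.pi KChart.chart toXX toXX_surj toCC be)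
open Cfsg.Agent.BpRankZero
open Cfsg.Agent.MonsterU.Ch
open Cfsg.Agent.MonsterU.Lam2 (L2)
open Cfsg.Spor (Co1)
open Subgroup (centralizer mem_centralizer_singleton_iff zpowers)

theorem not_dvd : ¬ 29 ^ (1 + 1) ∣ Nat.card ↥InstData.M.G := by
  rw [Row.card_M]
  norm_num

/-- **fixed rank 0** -/
theorem not_dvd_zero7 {y : centralizer ({KDone.K.z} : Set ↥InstData.M.G)} (hy : orderOf y = 7)
    (hfr : fr (KChart.pi MFive.Row.hc y) = 1) :
    ¬ 29 ∣ Nat.card ↥(centralizer ({(y : ↥InstData.M.G)} : Set ↥InstData.M.G)) := by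
  have hfin : Finite ↥InstData.M.G := Row.finite
  have : Fact (Nat.Prime 29) := ⟨by norm_num⟩
  have : Fact (Nat.Prime 5) := ⟨Nat.prime_five⟩
  have hp : Nat.Prime 7 := by norm_num
  have h := KChart.chart KDone.lft MFive.Row.hc
  have hy7 : y ^ 7 = 1 := by rw [← hy, pow_orderOf_eq_one]
  have hy' : orderOf (KChart.pi MFive.Row.hc y) = 7 := MFive.orderOf_pi h hp (by decide) hy
  obtain ⟨hS, -, hc⟩ := H961.SevX.xx_facts hy' hfr
  have honly := Seven.only_zD KDone.lft MFive.Row.hc hy7 hfr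
  have hz2 : KDone.K.z * KDone.K.z = 1 := h.large.z_sq
  have hz1 : KDone.K.z ≠ 1 := by
    intro h1
    have := LargeExtra.Base.orderOf_z h.large
    rw [h1, orderOf_one] at this
    norm_num at this
  refine not_dvd_zero (r := 7) (p := 29) (q := 5) (m := 1) hp (by decide) (by norm_num) (by norm_num)
    (by norm_num) ?_ not_dvd h hy hfr ?_ hS ?_ ?_ ?_ (H3.M13C.exists_kk hp (by decide) h hy7 hfr honly ?_)
  · intro i hi1 hi3
    interval_cases i <;> norm_num
  · intro d hd hcm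
    have hyz : (y : ↥InstData.M.G) * KDone.K.z = KDone.K.z * y := mem_centralizer_singleton_iff.1 y.2
    have h1 : d * KDone.K.z * d⁻¹ * y = y * (d * KDone.K.z * d⁻¹) := by
      calc d * KDone.K.z * d⁻¹ * y = d * KDone.K.z * (d⁻¹ * (y * d)) * d⁻¹ := by group
        _ = d * KDone.K.z * (d⁻¹ * (d * y)) * d⁻¹ := by rw [hd]
        _ = d * (KDone.K.z * y) * d⁻¹ := by group
        _ = d * (y * KDone.K.z) * d⁻¹ := by rw [hyz]
        _ = (d * y) * KDone.K.z * d⁻¹ := by group
        _ = (y * d) * KDone.K.z * d⁻¹ := by rw [hd]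
        _ = y * (d * KDone.K.z * d⁻¹) := by group
    rcases honly ⟨d * KDone.K.z * d⁻¹, mem_centralizer_singleton_iff.2 h1⟩ (Subtype.ext (by
      show d * KDone.K.z * d⁻¹ * (d * KDone.K.z * d⁻¹) = 1
      calc d * KDone.K.z * d⁻¹ * (d * KDone.K.z * d⁻¹) = d * (KDone.K.z * KDone.K.z) * d⁻¹ := by group
        _ = 1 := by rw [hz2]; group)) (Subtype.ext hcm) with h2 | h2
    · exfalso
      apply hz1
      have h3 : d * KDone.K.z * d⁻¹ = 1 := congrArg Subtype.val h2
      exact conj_eq_one_iff.1 h3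
    · exact congrArg Subtype.val h2
  · rw [hc]; decide
  · rw [hc]; norm_num
  · rw [hc]; norm_num
  · rw [hc]; norm_num

/-- **`y` in `C(z)`.** -/
theorem not_dvd_cent {y : centralizer ({KDone.K.z} : Set ↥InstData.M.G)} (hy : orderOf y = 7) :
    ¬ 29 ∣ Nat.card ↥(centralizer ({(y : ↥InstData.M.G)} : Set ↥InstData.M.G)) := by
  have hfin : Finite ↥InstData.M.G := Row.finite
  have hp : Nat.Prime 7 := by norm_num
  have h := KChart.chart KDone.lft MFive.Row.hc
  rcases CpAutMSeven.Ranks.hranks _ (MFive.orderOf_pi h hp (by decide) hy) with h1 | h1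
  · exact not_dvd_zero7 hy h1
  · refine not_dvd_XX hp (by norm_num) (by norm_num) (by rw [Subgroup.orderOf_coe, hy]) ?_
    rw [(MRow.he_facts (CpAutMSeven.ZeroComps.heSix y hy h1)).2]
    norm_num

/-- **`y` of order 7 with a centralizer of even order.** -/
theorem not_dvd_seven {y : ↥InstData.M.G} (hy : orderOf y = 7)
    (hev : ¬ Odd (Nat.card ↥(centralizer ({y} : Set ↥InstData.M.G)))) :
    ¬ 29 ∣ Nat.card ↥(centralizer ({y} : Set ↥InstData.M.G)) := by
  have hfin : Finite ↥InstData.M.G := Row.finite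
  have hp : Nat.Prime 7 := by norm_num
  obtain ⟨g, hg⟩ := CpAutMSeven.Hex.hex hy hev
  have h1 : (g⁻¹ * y * g) * KDone.K.z = KDone.K.z * (g⁻¹ * y * g) := by
    calc (g⁻¹ * y * g) * KDone.K.z = g⁻¹ * (y * (g * KDone.K.z * g⁻¹)) * g := by group
      _ = g⁻¹ * ((g * KDone.K.z * g⁻¹) * y) * g := by rw [hg]
      _ = KDone.K.z * (g⁻¹ * y * g) := by group
  have ho : orderOf (g⁻¹ * y * g) = 7 := by
    have h2 := (MulAut.conj g⁻¹).orderOf_eq y
    rw [MulAut.conj_apply, inv_inv] at h2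
    rw [h2, hy]
  have ho' : orderOf (⟨g⁻¹ * y * g, mem_centralizer_singleton_iff.2 h1⟩ :
      centralizer ({KDone.K.z} : Set ↥InstData.M.G)) = 7 := by
    rw [Subgroup.orderOf_mk, ho]
  have h3 := not_dvd_cent ho'
  refine not_dvd_conj hp hy ho (k := g⁻¹) (i := 1) ?_ h3
  rw [pow_one, inv_inv]

/-- a commuting triple 29, 7, 2 with `7` and `2` commuting does not exist -/
theorem no_triple {x y v : ↥InstData.M.G} (hx : orderOf x = 29) (hy : orderOf y = 7) (hv : orderOf v = 2)
    (hyv : y * v = v * y) : x * y ≠ y * x := by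
  have hfin : Finite ↥InstData.M.G := Row.finite
  intro hxy
  refine not_dvd_seven hy ?_ ?_
  · rw [Nat.not_odd_iff_even, even_iff_two_dvd]
    have h1 : orderOf (⟨v, mem_centralizer_singleton_iff.2 hyv.symm⟩ : ↥(centralizer ({y} : Set ↥InstData.M.G))) = 2 := by
      rw [Subgroup.orderOf_mk, hv]
    rw [← h1]
    exact orderOf_dvd_natCard _
  · have h1 : orderOf (⟨x, mem_centralizer_singleton_iff.2 hxy⟩ : ↥(centralizer ({y} : Set ↥InstData.M.G))) = 29 := by
      rw [Subgroup.orderOf_mk, hx]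
    rw [← h1]
    exact orderOf_dvd_natCard _

end Cfsg.Agent.H626.LD.SevA
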