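import Cfsg.Agent.H626.LD.SevA
import Cfsg.Agent.H626.LD.NilAbs
import Cfsg.Agent.H626.LD.Elev
import Cfsg.Agent.H961.SevM

/-!
# The Monster: `7⁴` does not divide the order of the centralizer of an element of order 29 (helper626)
-/

set_option autoImplicit false
set_option maxRecDepth 100000

namespace Cfsg.Agent.H626.LD.SevB

open Subgroup Cfsg
open Cfsg.Agent.MonsterX Cfsg.Agent.MonsterX.InstData
open Cfsg.Agent.MonsterP
open Cfsg.Agent.H241.NH
open Cfsg.Agent.BpSpor.MBigModel (MG)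
open Cfsg.Agent.H961.SevLift

/-- **`7⁴` does not divide `|C(u)|`.** -/
theorem not_dvd {x u s : ↥InstData.M.G} (hx : orderOf x = 3) (hu : orderOf u = 29) (hs4 : s ^ 4 = 1)
    (hsu : s * u * s⁻¹ = u ^ 12) (hs : Self x u) (hodd : Odd (Nat.card ↥(centralizer ({u} : Set ↥InstData.M.G)))) :
    ¬ 7 ^ 4 ∣ Nat.card ↥(centralizer ({u} : Set ↥InstData.M.G)) := by
  intro h4
  have hfin : Finite ↥InstData.M.G := MFive.Row.finite_model
  have hp7 : Nat.Prime 7 := by norm_num
  have hF7 : Fact (Nat.Prime 7) := ⟨hp7⟩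
  have hu29 : u ^ 29 = 1 := by rw [← hu]; exact pow_orderOf_eq_one u
  obtain ⟨t, htd⟩ : ∃ t, t = s * s := ⟨_, rfl⟩
  have htt : t * t = 1 := by
    have : s ^ 4 = s * s * (s * s) := by rw [show (4 : ℕ) = 2 * 2 from rfl, pow_mul, pow_two, pow_two]
    rw [htd, ← this, hs4]
  have hinv : t * u * t⁻¹ = u⁻¹ := by
    rw [htd]
    calc s * s * u * (s * s)⁻¹ = s * (s * u * s⁻¹) * s⁻¹ := by group
      _ = s * u ^ 12 * s⁻¹ := by rw [hsu]
      _ = (s * u * s⁻¹) ^ 12 := by rw [conj_pow]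
      _ = u ^ 144 := by rw [hsu, ← pow_mul]
      _ = (u ^ 29) ^ 5 * u⁻¹ := by group
      _ = u⁻¹ := by rw [hu29]; group
  have ht1 : t ≠ 1 := by
    intro h
    rw [h, one_mul, inv_one, mul_one] at hinv
    have h1 : u ^ 2 = 1 := by
      rw [pow_two]
      nth_rewrite 2 [hinv]
      exact mul_inv_cancel u
    have h2 := orderOf_dvd_of_pow_eq_one h1
    rw [hu] at h2
    norm_num at h2
  have hF2 : Fact (Nat.Prime 2) := ⟨Nat.prime_two⟩
  have hto : orderOf t = 2 := orderOf_eq_prime (by rw [pow_two, htt]) ht1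
  obtain ⟨X, hXn, hXp, hXi⟩ := Abs.exists_normal_sylow (by norm_num) (by norm_num) hx hu hs hodd hp7 (by norm_num)
  obtain ⟨X', hX'⟩ : ∃ X' : Subgroup ↥InstData.M.G, X' = X.map (centralizer ({u} : Set ↥InstData.M.G)).subtype := ⟨_, rfl⟩
  have hX'p : IsPGroup 7 ↥X' := by rw [hX']; exact hXp.map _
  have hX'u : ∀ g ∈ X', g * u = u * g := by
    intro g hg
    rw [hX'] at hg
    exact mem_centralizer_singleton_iff.1 (map_subtype_le X hg)
  have hX'c : 7 ^ 4 ∣ Nat.card ↥X' := by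
    rw [hX', card_map_of_injective (subtype_injective _)]
    rw [← X.card_mul_index] at h4
    exact (Nat.Coprime.pow_left 4 ((Nat.Prime.coprime_iff_not_dvd hp7).2 hXi)).dvd_of_dvd_mul_right h4
  have hX't : ∀ g ∈ X', t * g * t⁻¹ ∈ X' := by
    rw [hX']
    exact Abs.conj_mem (by rw [hinv]; exact inv_mem (mem_zpowers u)) hp7 hXn hXp hXi
  -- elements of order 7 of `X'` commute with no involution
  have hno : ∀ g ∈ X', g ≠ 1 → ∀ v : ↥InstData.M.G, orderOf v = 2 → g * v ≠ v * g := by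
    intro g hg hg1 v hv hgv
    obtain ⟨k, hk⟩ := hX'p ⟨g, hg⟩
    have hk' : g ^ 7 ^ k = 1 := congrArg Subtype.val hk
    obtain ⟨j, -, hj⟩ := (Nat.dvd_prime_pow hp7).1 (orderOf_dvd_of_pow_eq_one hk')
    have hj0 : j ≠ 0 := by
      intro h
      rw [h, pow_zero, orderOf_eq_one_iff] at hj
      exact hg1 hj
    have h1 : orderOf (g ^ 7 ^ (j - 1)) = 7 := by
      rw [orderOf_pow, hj, Nat.gcd_eq_right (pow_dvd_pow 7 (Nat.sub_le j 1)),
        Nat.pow_div (Nat.sub_le j 1) (by norm_num), show j - (j - 1) = 1 by omega, pow_one]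
    refine SevA.no_triple hu h1 hv ?_ ?_
    · exact ((show Commute g v from hgv).pow_left _).eq
    · exact ((show Commute g u from hX'u g hg).pow_left _).eq.symm
  have hfp : ∀ g ∈ X', t * g * t⁻¹ = g → g = 1 := by
    intro g hg h
    by_contra hg1
    exact hno g hg hg1 t hto (mul_inv_eq_iff_eq_mul.1 h).symm
  have hab := Abs.comm_of_inverts (MThirteen.inverts htt hX't hfp)
  -- the Sylow subgroup
  obtain ⟨y, v, s', a, c, w, hL, h5⟩ := H961.SevM.exists_data'
  obtain ⟨Q, hQ, -⟩ := H961.SevM.exists_qq hL h5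
  have h77 : ¬ 7 ^ 7 ∣ Nat.card ↥InstData.M.G := by rw [H961.SevM.card_model]; norm_num
  obtain ⟨hw1, s1, hs1, hne⟩ := hL.mem_Q hQ h5 h77
  obtain ⟨P, -, hP⟩ := hL.sylow_le h5 (by rw [H961.SevM.card_model]; norm_num)
  have hwo : orderOf (w : ↥InstData.M.G) = 7 := orderOf_eq_prime hL.w7 hL.w1
  obtain ⟨T, hT⟩ := hX'p.exists_le_sylow
  obtain ⟨g, hg⟩ := MulAction.exists_smul_eq ↥InstData.M.G T P
  -- `g X' g⁻¹` commutes with `w`
  have hgP : ∀ b ∈ X', g * b * g⁻¹ ∈ (P : Subgroup ↥InstData.M.G) := by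
    intro b hb
    rw [← hg]
    exact ⟨b, hT hb, rfl⟩
  have hgw : ∀ b ∈ X', (g * b * g⁻¹) * w = w * (g * b * g⁻¹) := fun b hb =>
    mem_centralizer_singleton_iff.1 (hP (hgP b hb))
  obtain ⟨Y, hY⟩ : ∃ Y : Subgroup ↥InstData.M.G, Y = X'.map (MulAut.conj g).toMonoidHom := ⟨_, rfl⟩
  have hYm : ∀ b ∈ Y, ∃ b' ∈ X', b = g * b' * g⁻¹ := by
    intro b hb
    rw [hY] at hb
    obtain ⟨b', hb', rfl⟩ := hb
    exact ⟨b', hb', rfl⟩
  have hYP : Y ≤ (P : Subgroup ↥InstData.M.G) := by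
    intro b hb
    obtain ⟨b', hb', rfl⟩ := hYm b hb
    exact hgP b' hb'
  have hYp : IsPGroup 7 ↥Y := P.isPGroup'.to_le hYP
  have hYc : 7 ^ 4 ∣ Nat.card ↥Y := by
    rw [hY, card_map_of_injective (MulAut.conj g).injective]
    exact hX'c
  have hYw : ∀ b ∈ Y, b * w = w * b := fun b hb => mem_centralizer_singleton_iff.1 (hP (hYP hb))
  have hYab : ∀ a ∈ Y, ∀ b ∈ Y, a * b = b * a := by
    intro a ha b hb
    obtain ⟨a', ha', rfl⟩ := hYm a ha
    obtain ⟨b', hb', rfl⟩ := hYm b hb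
    calc g * a' * g⁻¹ * (g * b' * g⁻¹) = g * (a' * b') * g⁻¹ := by group
      _ = g * (b' * a') * g⁻¹ := by rw [hab a' ha' b' hb']
      _ = _ := by group
  have hwY : (w : ↥InstData.M.G) ∉ Y := by
    intro h
    obtain ⟨b, hb, hwb⟩ := hYm _ h
    have hz : orderOf (KDone.K.z) = 2 := LargeExtra.Base.orderOf_z (LThreeMB.KChart.chart KDone.lft MFive.Row.hc).large
    refine hno b hb ?_ (g⁻¹ * KDone.K.z * g) ?_ ?_
    · rintro rfl
      apply hL.w1
      rw [hwb]; group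
    · have h2 := (MulAut.conj g⁻¹).orderOf_eq KDone.K.z
      rw [MulAut.conj_apply, inv_inv] at h2
      rw [h2, hz]
    · have h3 : (w : ↥InstData.M.G) * KDone.K.z = KDone.K.z * w := mem_centralizer_singleton_iff.1 w.2
      have h4 : b = g⁻¹ * w * g := by rw [hwb]; group
      calc b * (g⁻¹ * KDone.K.z * g) = g⁻¹ * (w * KDone.K.z) * g := by rw [h4]; group
        _ = g⁻¹ * (KDone.K.z * w) * g := by rw [h3]
        _ = g⁻¹ * KDone.K.z * g * b := by rw [h4]; group
  -- `A = Y ⟨w⟩`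
  have hwn : zpowers (w : ↥InstData.M.G) ≤ normalizer (Y : Set ↥InstData.M.G) := by
    rw [zpowers_le, mem_normalizer_iff]
    have h3 : ∀ b, b * (w : ↥InstData.M.G) = w * b → w * b * (w : ↥InstData.M.G)⁻¹ = b := fun b hb => by
      rw [← hb, mul_inv_cancel_right]
    intro b
    constructor
    · intro hb
      rw [h3 b (hYw b hb)]
      exact hb
    · intro hb
      have h4 := hYw _ hb
      have h5 : b * (w : ↥InstData.M.G) = w * b := by
        calc b * (w : ↥InstData.M.G) = (w : ↥InstData.M.G)⁻¹ * ((w * b * (w : ↥InstData.M.G)⁻¹) * w) * w := by group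
          _ = (w : ↥InstData.M.G)⁻¹ * (w * (w * b * (w : ↥InstData.M.G)⁻¹)) * w := by rw [h4]
          _ = w * b := by group
      rwa [h3 b h5] at hb
  have hAp : IsPGroup 7 ↥(Y ⊔ zpowers (w : ↥InstData.M.G)) := by
    have h1 : IsPGroup 7 ↥(zpowers (w : ↥InstData.M.G)) :=
      IsPGroup.of_card (n := 1) (by rw [Nat.card_zpowers, hwo, pow_one])
    exact hYp.to_sup_of_normal_left' h1 hwn
  refine Abs.no_abelian hQ ⟨s1, hs1, _, hw1, hne⟩ h77 hwo hAp ?_ (mem_sup_right (mem_zpowers _)) ?_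
  · have h1 : Y ⊔ zpowers (w : ↥InstData.M.G) ≤ centralizer ((Y ⊔ zpowers (w : ↥InstData.M.G) : Subgroup _) : Set ↥InstData.M.G) := by
      have h2 : ∀ b ∈ Y, Y ⊔ zpowers (w : ↥InstData.M.G) ≤ centralizer {b} := fun b hb =>
        sup_le (fun c hc => mem_centralizer_singleton_iff.2 (hYab c hc b hb))
          (zpowers_le.2 (mem_centralizer_singleton_iff.2 (hYw b hb).symm))
      have h3 : Y ⊔ zpowers (w : ↥InstData.M.G) ≤ centralizer {(w : ↥InstData.M.G)} :=
        sup_le (fun c hc => mem_centralizer_singleton_iff.2 (hYw c hc))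
          (zpowers_le.2 (mem_centralizer_singleton_iff.2 rfl))
      refine sup_le ?_ (zpowers_le.2 ?_)
      · intro b hb
        rw [mem_centralizer_iff]
        intro c hc
        exact mem_centralizer_singleton_iff.1 (h2 b hb hc)
      · rw [mem_centralizer_iff]
        intro c hc
        exact mem_centralizer_singleton_iff.1 (h3 hc)
    intro a ha b hb
    exact mem_centralizer_iff.1 (h1 hb) a ha
  · refine card_step hp7 hAp (A := Y) ?_ hYc
    refine lt_of_le_of_ne le_sup_left fun h => hwY ?_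
    have h2 : (w : ↥InstData.M.G) ∈ Y ⊔ zpowers (w : ↥InstData.M.G) := mem_sup_right (mem_zpowers _)
    rwa [← h] at h2

end Cfsg.Agent.H626.LD.SevB
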